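import Cfsg.Agent.CosetCert.Pack

/-! Generated: the facts of the log. -/

namespace Cfsg.Agent.CosetCert.HeChain2

def factStore : Store := (.node 1 (.leaf 0x100000b000000f0000a010000e00007000000e00009000000d0000801000090000400000070000400000060000300000050000202000770005f03000760005d03000750005c02000740005b01000730005a030007200058010007100058020007000057010006f00056020006e00055030006d00054030006c00052020006b00052030006a0005101000690005102000680005001000670004f02000660004e03000650004c03000640004b01000630004b02000620004a010006100049020006000048030005f00046030005e00045010005d00045020005c00044010005b00043020005a0004203000590004102000580004001000570003f02000560003e03000550003c02000540003c03000530003b01000520003b02000510003a010005000039020004f00038030004e00037030004d00036010004c00036020004b00035010004a0003402000490003303000480003203000470003101000460003102000450003001000440002f02000430002e03000420002d02000410002c01000400002b020003f0002a030003e00029030003d00028010003c00028020003b00027010003a0002602000390002503000380002402000370002402000360002301000350002202000340002103000330002001000320002002000310001f01000300001e020002f0001d030002e0001c010002d0001c010002c0001b020002b0001a030002a00019020002900019020002800018010002700017020002600016030002500015010002400015010002300014020002200013030002100012020002000012010001f00011020001e00010030001d0000f020001c0000f020001b0000e030001a0000d01000190000d01000180000c02000170000b03000160000a02000150000a020001400009030001300008010001200008020001100007030001000006010000f00006030000e00005020000d00005020000c00004030000b00003010000a00003030000900002020000800002030000700001020000600001010000500001030000400000020000300000010000200000000000100000)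 (.leaf 0x1000770006003000770007300000770006e02000760006f01000760005e00000760006c02000750007101000750006200000750006a03000710007401000740007200000740006802000730006500000730006702000720005900000720006400000710006303000700006901000700006a000007000062030006f00057000006f00061010006e00066030006e00067020006d00067010006d00059000006d00065020006c00061010006c00053030006b00062010006b0005c000006b00069020006a0006302000690005d03000630006801000680006403000660004f00000660006001000650004d02000640004d03000610004a03000600005a010005f00047000005f00055020005e00047000005e00053000005d00052000005c00051030005b00044000005b00050000005a0004f00000590004d00000580004b00000570004a03000560003f00000560004901000550003d01000540004100000540004c02000530003d03000500003a010004e0003e000004e00048020004c0004603000490003401000480003300000470003d00000460003c00000450003b00000440003a03000430002f00000430003901000420002e00000420003800000410003603000400002c000004000035000003f00034000003e0003303000390002601000380002501000370002900000370003203000350002302000320002d00000310002803000300001f000003000027000002f00026000002e00025000002d00024000002c00023030002b0001b000002b00022010002a0001a000002a00021000002900020030002700018030002200014010002100013000001f00018030001e00011000001e00017010001d00010000001d00016000001c00015000001b00014000001a0001300000190001203000170000c01000160000b00000110000c))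

end Cfsg.Agent.CosetCert.HeChain2
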